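import Cfsg.Agent.Lib.IBr.EigenRank
import Cfsg.Agent.Lib.RepCritical.Irreducible

/-!
# Brauer characters: additivity and linear independence
-/

set_option autoImplicit false
set_option linter.style.haveILetI false
set_option linter.unusedSectionVars false

namespace CfsgLib.IBr

open Cfsg Finset Module CfsgLib.RepCritical

universe u

variable {p : ℕ} {M : Ideal AlgInt} (S : PSys p M)
variable {H : Type u} [Group H] [Finite H]

namespace PSys

/-- The `p'`-part of an element. -/
def reg (g : H) : H := g ^ S.e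

/-- The Brauer character, extended by `g ↦ φ(g_{p'})`. -/
noncomputable def brau {W : Type*} [AddCommGroup W] [Module S.K W] (ρ : Representation S.K H W)
    (g : H) : ℂ :=
  S.brauEnd (ρ (S.reg g))

/-- The order of the group divides `m * q`. -/
def Fits (H : Type u) [Group H] : Prop := Nat.card H ∣ S.m * S.q

variable {S}

theorem Fits.subgroup (hH : S.Fits H) (K : Subgroup H) : S.Fits K :=
  (Subgroup.card_subgroup_dvd_card K).trans hH

theorem Fits.reg_pow (hH : S.Fits H) (g : H) : S.reg g ^ S.m = 1 := S.he.pow_pow_eq_one hH g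

theorem Fits.reg_reg (hH : S.Fits H) (g : H) : S.reg (S.reg g) = S.reg g := S.he.pow_pow hH g

theorem Fits.rep_pow (hH : S.Fits H) {W : Type*} [AddCommGroup W] [Module S.K W]
    (ρ : Representation S.K H W) (g : H) : ρ (S.reg g) ^ S.m = 1 := by
  rw [← map_pow, hH.reg_pow, map_one]

theorem reg_conj (g h : H) : S.reg (h * g * h⁻¹) = h * S.reg g * h⁻¹ := conj_pow

theorem Fits.reg_eq_self_iff (hH : S.Fits H) (g : H) : S.reg g = g ↔ ¬ p ∣ orderOf g := by
  constructor
  · intro h hd
    exact S.hm (hd.trans (orderOf_dvd_of_pow_eq_one (h ▸ hH.reg_pow g)))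
  · intro h
    obtain ⟨a, ha⟩ := S.hq
    refine S.he.pow_eq_self (orderOf_dvd_iff_pow_eq_one.1 ?_)
    refine (?_ : Nat.Coprime (orderOf g) S.q).dvd_of_dvd_mul_right ((orderOf_dvd_natCard g).trans hH)
    rw [ha]
    exact ((S.hp.coprime_iff_not_dvd.2 h).pow_left a).symm

theorem Fits.trace_reg (hH : S.Fits H) {W : Type*} [AddCommGroup W] [Module S.K W]
    [FiniteDimensional S.K W] (ρ : Representation S.K H W) (g : H) :
    LinearMap.trace S.K W (ρ g) = LinearMap.trace S.K W (ρ (S.reg g)) := by
  haveI := S.charP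
  haveI := Fact.mk S.hp
  obtain ⟨a, ha⟩ := S.hq
  set h := S.reg g with hh
  set u := g * h⁻¹ with hu
  have hc : Commute h u := by
    have h1 : Commute h g := (Commute.refl g).pow_left S.e
    exact h1.mul_right (Commute.refl h).inv_right
  have hgu : g = h * u := by rw [hc.eq, hu]; group
  have hu1 : u ^ S.q = 1 := by
    have h1 : Commute g h⁻¹ := ((Commute.refl g).pow_right S.e).inv_right
    rw [hu, h1.mul_pow, inv_pow, hh, reg, ← pow_mul, mul_comm S.e S.q, pow_mul]
    have h2 : (g ^ S.q) ^ S.e = g ^ S.q := by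
      refine S.he.pow_eq_self ?_
      obtain ⟨i, hi⟩ := hH
      rw [← pow_mul, mul_comm, hi, pow_mul, pow_card_eq_one', one_pow]
    rw [h2, mul_inv_cancel]
  have hnil : IsNilpotent (ρ u - 1) := by
    refine ⟨p ^ a, ?_⟩
    rcases subsingleton_or_nontrivial (Module.End S.K W) with hs | hn
    · exact Subsingleton.elim _ _
    haveI : CharP (Module.End S.K W) p :=
      charP_of_injective_algebraMap (algebraMap S.K (Module.End S.K W)).injective p
    rw [sub_pow_char_pow_of_commute p a (Commute.one_right _), one_pow, ← map_pow, ← ha, hu1, map_one,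
      sub_self]
  have hnil2 : IsNilpotent (ρ h * (ρ u - 1)) :=
    Commute.isNilpotent_mul_left (by
      rw [commute_iff_eq, mul_sub, sub_mul, mul_one, one_mul, ← map_mul, ← map_mul, hc.eq]) hnil
  have h2 := (LinearMap.isNilpotent_trace_of_isNilpotent hnil2).eq_zero
  rw [mul_sub, mul_one, map_sub, sub_eq_zero, ← map_mul, ← hgu] at h2
  exact h2

section Rep

variable {W W' : Type*} [AddCommGroup W] [Module S.K W] [AddCommGroup W'] [Module S.K W']

theorem Fits.residue_brau (hH : S.Fits H) [FiniteDimensional S.K W] (ρ : Representation S.K H W)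
    (g : H) : ∃ v : S.V, (v : ℂ) = S.brau ρ g ∧
      IsLocalRing.residue S.V v = LinearMap.trace S.K W (ρ g) := by
  rw [hH.trace_reg ρ g]
  exact S.residue_brauEnd (hH.rep_pow ρ g)

theorem Fits.brau_reg (hH : S.Fits H) (ρ : Representation S.K H W) (g : H) :
    S.brau ρ (S.reg g) = S.brau ρ g := by
  rw [brau, hH.reg_reg]
  rfl

theorem brau_one [FiniteDimensional S.K W] (ρ : Representation S.K H W) :
    S.brau ρ 1 = (finrank S.K W : ℂ) := by
  rw [brau, reg, one_pow, map_one, S.brauEnd_one]

theorem brau_congr (φ : W ≃ₗ[S.K] W') (ρ : Representation S.K H W)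
    (σ : Representation S.K H W') (h : ∀ g x, σ g (φ x) = φ (ρ g x)) : S.brau σ = S.brau ρ := by
  funext g
  have e : σ (S.reg g) = φ.conjAlgEquiv S.K (ρ (S.reg g)) := LinearMap.ext fun y => by
    obtain ⟨x, rfl⟩ := φ.surjective y
    rw [h]
    simp [LinearEquiv.conjAlgEquiv]
  rw [brau, brau, e, S.brauEnd_conj]

theorem brau_conj_arg (ρ : Representation S.K H W) (g h : H) :
    S.brau ρ (h * g * h⁻¹) = S.brau ρ g := by
  let φ : W ≃ₗ[S.K] W :=
    LinearEquiv.ofLinear (ρ h) (ρ h⁻¹) (by rw [← Module.End.mul_eq_comp, ← map_mul, mul_inv_cancel, map_one]; rfl)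
      (by rw [← Module.End.mul_eq_comp, ← map_mul, inv_mul_cancel, map_one]; rfl)
  have e : ρ (S.reg (h * g * h⁻¹)) = φ.conjAlgEquiv S.K (ρ (S.reg g)) := by
    rw [reg_conj, map_mul, map_mul]
    exact LinearMap.ext fun x => rfl
  rw [brau, e, S.brauEnd_conj]
  rfl

/-- The restriction to an invariant subspace. -/
noncomputable def subRep (ρ : Representation S.K H W) (U : Submodule S.K W) (hU : ∀ g, ∀ x ∈ U, ρ g x ∈ U) :
    Representation S.K H U :=
  Subrepresentation.toRepresentation ⟨U, fun g _ hx => hU g _ hx⟩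

theorem Fits.brau_split (hH : S.Fits H) [FiniteDimensional S.K W] (ρ : Representation S.K H W)
    (U : Submodule S.K W) (hU : ∀ g, ∀ x ∈ U, ρ g x ∈ U) (g : H) :
    S.brau ρ g = S.brau (subRep ρ U hU) g + S.brau (ρ.quotient U fun g x hx => hU g x hx) g :=
  S.brauEnd_split (hH.rep_pow ρ g) U (hU _)

end Rep

variable (S) in
/-- A representation on a coordinate space. -/
abbrev CoordRep (H : Type u) [Group H] := Σ n : ℕ, Representation S.K H (Fin n → S.K)

/-- A simple representation. -/
def Simple {W : Type*} [AddCommGroup W] [Module S.K W] (ρ : Representation S.K H W) : Prop :=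
  IrrOn ρ ⊤ ⊤

/-- The action of a function on the group. -/
noncomputable def act [Fintype H] {W : Type*} [AddCommGroup W] [Module S.K W]
    (ρ : Representation S.K H W) (f : H → S.K) : Module.End S.K W :=
  ∑ h, f h • ρ h

theorem act_mul_left [Fintype H] {W : Type*} [AddCommGroup W] [Module S.K W]
    (ρ : Representation S.K H W) (g : H) (f : H → S.K) :
    ρ g * act ρ f = act ρ fun h => f (g⁻¹ * h) := by
  simp only [act, Finset.mul_sum, mul_smul_comm, ← map_mul]
  exact Fintype.sum_equiv (Equiv.mulLeft g) _ _ fun h => by simp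

theorem act_single [Fintype H] [DecidableEq H] {W : Type*} [AddCommGroup W] [Module S.K W]
    (ρ : Representation S.K H W) : act ρ (Pi.single 1 1) = 1 := by
  rw [act, Finset.sum_eq_single (1 : H) (fun h _ hh => by simp [hh]) (by simp)]
  simp

theorem act_conv [Fintype H] {W : Type*} [AddCommGroup W] [Module S.K W]
    (ρ : Representation S.K H W) (f f' : H → S.K) :
    act ρ (fun x => ∑ h, f h * f' (h⁻¹ * x)) = act ρ f * act ρ f' := by
  simp only [act, Finset.sum_mul_sum, Finset.sum_smul, smul_mul_smul_comm]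
  rw [Finset.sum_comm]
  refine Finset.sum_congr rfl fun h _ => ?_
  refine (Fintype.sum_equiv (Equiv.mulLeft h) _ _ fun y => ?_).symm
  simp [map_mul]

/-- A Jordan–Hölder list. -/
theorem Fits.exists_factors [Fintype H] (hH : S.Fits H) :
    ∀ (n : ℕ) (W : Type) [AddCommGroup W] [Module S.K W] [FiniteDimensional S.K W]
      (ρ : Representation S.K H W), finrank S.K W = n →
      ∃ l : List (S.CoordRep H), (∀ s ∈ l, Simple s.2) ∧
        (∀ g, S.brau ρ g = (l.map fun s => S.brau s.2 g).sum) ∧
        ∀ (f : H → S.K) (c : S.K), act ρ f = c • 1 → ∀ s ∈ l, act s.2 f = c • 1 := by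
  intro n
  induction n using Nat.strong_induction_on with
  | _ n ih =>
  intro W _ _ _ ρ hn
  rcases Nat.eq_zero_or_pos n with h0 | hpos
  · haveI : Subsingleton W := finrank_zero_iff.1 (hn.trans h0)
    refine ⟨[], by simp, fun g => ?_, by simp⟩
    rw [List.map_nil, List.sum_nil, brau, show ρ (S.reg g) = 1 from Subsingleton.elim _ _,
      S.brauEnd_one, hn, h0, Nat.cast_zero]
  by_cases hs : ∀ U : Submodule S.K W, (∀ g, ∀ x ∈ U, ρ g x ∈ U) → U = ⊥ ∨ U = ⊤
  · let φ : W ≃ₗ[S.K] (Fin n → S.K) := (Module.finBasisOfFinrankEq S.K W hn).equivFun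
    let σ : Representation S.K H (Fin n → S.K) := (φ.conjAlgEquiv S.K).toAlgHom.toMonoidHom.comp ρ
    have hσ : ∀ g x, σ g (φ x) = φ (ρ g x) := fun g x => by
      show φ (ρ g (φ.symm (φ x))) = _
      rw [φ.symm_apply_apply]
    refine ⟨[⟨n, σ⟩], ?_, fun g => ?_, ?_⟩
    · intro s hs'
      rw [List.mem_singleton] at hs'
      subst hs'
      haveI : Nontrivial W := Module.nontrivial_of_finrank_pos (R := S.K) (hn ▸ hpos)
      refine ⟨fun g _ w _ => Submodule.mem_top, ?_, fun U _ hU => ?_⟩
      · haveI : Nontrivial (Fin n → S.K) := φ.symm.toEquiv.nontrivial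
        exact top_ne_bot
      have hback : ∀ g, ∀ x ∈ U.comap φ.toLinearMap, ρ g x ∈ U.comap φ.toLinearMap := fun g x hx => by
        show φ (ρ g x) ∈ U
        rw [← hσ]
        exact hU g (Subgroup.mem_top g) _ hx
      rcases hs _ hback with h | h
      · refine Or.inl ((Submodule.eq_bot_iff U).2 fun y hy => ?_)
        have h1 : φ.symm y ∈ U.comap φ.toLinearMap := by simpa using hy
        rw [h, Submodule.mem_bot] at h1
        simpa using congrArg φ h1
      · refine Or.inr (eq_top_iff.2 fun y _ => ?_)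
        have h1 : φ.symm y ∈ U.comap φ.toLinearMap := h ▸ Submodule.mem_top
        simpa using h1
    · rw [List.map_singleton, List.sum_singleton, brau_congr φ ρ σ hσ]
    · intro f c hc s hs'
      rw [List.mem_singleton] at hs'
      subst hs'
      refine LinearMap.ext fun y => ?_
      obtain ⟨x, rfl⟩ := φ.surjective y
      have h1 := congrArg φ (LinearMap.congr_fun hc x)
      simp only [act, LinearMap.sum_apply, LinearMap.smul_apply, map_sum, map_smul,
        Module.End.one_apply] at h1 ⊢
      simpa only [hσ] using h1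
  push Not at hs
  obtain ⟨U, hU, hbot, htop⟩ := hs
  have h1 : finrank S.K U < n := hn ▸ Submodule.finrank_lt htop
  have h2 : finrank S.K (W ⧸ U) < n := by
    have e := U.finrank_quotient_add_finrank
    have : 0 < finrank S.K U := Module.finrank_pos_iff.2 ((Submodule.nontrivial_iff_ne_bot).2 hbot)
    omega
  obtain ⟨l1, hl1, hb1, ha1⟩ := ih _ h1 U (subRep ρ U hU) rfl
  obtain ⟨l2, hl2, hb2, ha2⟩ := ih _ h2 (W ⧸ U) (ρ.quotient U fun g x hx => hU g x hx) rfl
  refine ⟨l1 ++ l2, fun s hs' => (List.mem_append.1 hs').elim (hl1 s) (hl2 s), fun g => ?_, ?_⟩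
  · rw [hH.brau_split ρ U hU g, hb1, hb2, List.map_append, List.sum_append]
  · intro f c hc s hs'
    rcases List.mem_append.1 hs' with h | h
    · refine ha1 f c (LinearMap.ext fun x => Subtype.ext ?_) s h
      have := LinearMap.congr_fun hc (x : W)
      simp only [act, LinearMap.sum_apply, LinearMap.smul_apply, Module.End.one_apply,
        AddSubmonoidClass.coe_finsetSum, SetLike.val_smul] at this ⊢
      exact this
    · refine ha2 f c (LinearMap.ext fun z => ?_) s h
      obtain ⟨x, rfl⟩ := U.mkQ_surjective z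
      have := congrArg U.mkQ (LinearMap.congr_fun hc x)
      simp only [act, LinearMap.sum_apply, LinearMap.smul_apply, Module.End.one_apply, map_sum,
        map_smul] at this ⊢
      exact this

/-- The simple representations with a common annihilator are isomorphic. -/
theorem exists_act_separating [Fintype H] {W W' : Type*} [AddCommGroup W] [Module S.K W]
    [FiniteDimensional S.K W] [AddCommGroup W'] [Module S.K W'] [FiniteDimensional S.K W']
    {ρ : Representation S.K H W} (hρ : Simple ρ) {σ : Representation S.K H W'} (hσ : Simple σ)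
    (hne : S.brau ρ ≠ S.brau σ) : ∃ f : H → S.K, act σ f = 0 ∧ act ρ f ≠ 0 := by
  classical
  haveI := S.isAlgClosed
  by_contra hno
  push Not at hno
  apply hne
  have hspan := CfsgLib.RepCritical.span_eq_top σ hσ
  rw [Subgroup.coe_top, Set.image_univ] at hspan
  have hsurj : ∀ T : Module.End S.K W', ∃ f : H → S.K, act σ f = T := fun T => by
    have hT : T ∈ Submodule.span S.K (Set.range fun g => σ g) := hspan ▸ Submodule.mem_top
    obtain ⟨c, hc⟩ := (Submodule.mem_span_range_iff_exists_fun S.K).1 hT
    exact ⟨c, hc⟩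
  choose c hc using hsurj
  have hlin : ∀ f f' : H → S.K, act σ f = act σ f' → act ρ f = act ρ f' := fun f f' e => by
    have h0 : act σ (f - f') = 0 := by
      simp only [act, Pi.sub_apply, sub_smul, Finset.sum_sub_distrib]
      exact sub_eq_zero.2 e
    have := hno _ h0
    simp only [act, Pi.sub_apply, sub_smul, Finset.sum_sub_distrib] at this
    exact sub_eq_zero.1 this
  let Θ : Module.End S.K W' → Module.End S.K W := fun T => act ρ (c T)
  have hΘ : ∀ f, Θ (act σ f) = act ρ f := fun f => hlin _ _ (hc _)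
  have hadd : ∀ T T', Θ (T + T') = Θ T + Θ T' := fun T T' => by
    have h1 : Θ (T + T') = act ρ (c T + c T') := hlin _ _ (by
      rw [hc]
      conv_lhs => rw [← hc T, ← hc T']
      simp [act, add_smul, Finset.sum_add_distrib])
    rw [h1]
    simp [Θ, act, add_smul, Finset.sum_add_distrib]
  have hsmul : ∀ (r : S.K) T, Θ (r • T) = r • Θ T := fun r T => by
    have h1 : Θ (r • T) = act ρ (r • c T) := hlin _ _ (by
      rw [hc]
      conv_lhs => rw [← hc T]
      simp [act, Finset.smul_sum, smul_smul])
    rw [h1]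
    simp [Θ, act, Finset.smul_sum, smul_smul]
  have hmulg : ∀ g T, Θ (σ g * T) = ρ g * Θ T := fun g T => by
    have e1 : σ g * act σ (c T) = act σ fun h => c T (g⁻¹ * h) := act_mul_left σ g (c T)
    have e2 : ρ g * act ρ (c T) = act ρ fun h => c T (g⁻¹ * h) := act_mul_left ρ g (c T)
    rw [show Θ (σ g * T) = Θ (act σ fun h => c T (g⁻¹ * h)) by rw [← e1, hc], hΘ, ← e2]
  have hone : Θ 1 = 1 := by
    conv_lhs => rw [← act_single σ]
    rw [hΘ, act_single ρ]
  haveI : Nontrivial W := by
    by_contra hnt
    rw [not_nontrivial_iff_subsingleton] at hnt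
    exact hρ.2.1 (Subsingleton.elim _ _)
  let bas := Module.finBasis S.K W'
  -- some rank one endomorphism acts nontrivially
  have hdec : (1 : Module.End S.K W') = ∑ i, (bas.coord i).smulRight (bas i) :=
    LinearMap.ext fun x => by simpa using (bas.sum_repr x).symm
  obtain ⟨i, w, hw⟩ : ∃ i w, Θ ((bas.coord i).smulRight (bas i)) w ≠ 0 := by
    by_contra hz
    push Not at hz
    have h0 : Θ 0 = 0 := by simpa using hsmul 0 0
    have h1 : ∀ s : Finset _, Θ (∑ i ∈ s, (bas.coord i).smulRight (bas i)) = 0 := by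
      intro s
      induction s using Finset.induction_on with
      | empty => simpa using h0
      | insert j t hj ih =>
        rw [Finset.sum_insert hj, hadd, ih, add_zero]
        exact LinearMap.ext (hz j)
    have := h1 univ
    rw [← hdec, hone] at this
    exact one_ne_zero this
  let Φ : W' →ₗ[S.K] W :=
    { toFun := fun u => Θ ((bas.coord i).smulRight u) w
      map_add' := fun u v => by
        rw [show (bas.coord i).smulRight (u + v) = (bas.coord i).smulRight u + (bas.coord i).smulRight v
          from LinearMap.ext fun x => by simp [smul_add], hadd, LinearMap.add_apply]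
      map_smul' := fun r u => by
        rw [show (bas.coord i).smulRight (r • u) = r • (bas.coord i).smulRight u
          from LinearMap.ext fun x => by simp [smul_smul, mul_comm], hsmul]
        rfl }
  have hΦ : ∀ g u, Φ (σ g u) = ρ g (Φ u) := fun g u => by
    show Θ _ w = ρ g (Θ _ w)
    rw [← Module.End.mul_apply, ← hmulg,
      show σ g * (bas.coord i).smulRight u = (bas.coord i).smulRight (σ g u) from
        LinearMap.ext fun x => by simp [map_smul]]
  have hinj : LinearMap.ker Φ = ⊥ := by
    refine (hσ.2.2 _ le_top fun g _ u hu => ?_).resolve_right fun e => hw ?_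
    · rw [LinearMap.mem_ker] at hu ⊢
      rw [hΦ, hu, map_zero]
    · exact LinearMap.mem_ker.1 (e ▸ Submodule.mem_top : bas i ∈ LinearMap.ker Φ)
  have hsur : LinearMap.range Φ = ⊤ := by
    refine (hρ.2.2 _ le_top fun g _ u hu => ?_).resolve_left fun e => hw ?_
    · obtain ⟨v, rfl⟩ := hu
      exact ⟨σ g v, hΦ g v⟩
    · exact (Submodule.mem_bot S.K).1 (e ▸ LinearMap.mem_range_self Φ (bas i))
  exact brau_congr (LinearEquiv.ofBijective Φ ⟨LinearMap.ker_eq_bot.1 hinj,
    LinearMap.range_eq_top.1 hsur⟩) σ ρ fun g x => (hΦ g x).symm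

/-- An element with trace one at one simple representation and zero at the others. -/
theorem exists_act_delta [Fintype H] {ι : Type*} [DecidableEq ι] (s : ι → S.CoordRep H)
    (hs : ∀ j, Simple (s j).2) (hinj : Function.Injective fun j => S.brau (s j).2)
    (t : Finset ι) (i : ι) :
    i ∉ t → ∃ f : H → S.K, LinearMap.trace S.K _ (act (s i).2 f) = 1 ∧
      ∀ j ∈ t, act (s j).2 f = 0 := by
  classical
  haveI := S.isAlgClosed
  intro hi
  set ρ := (s i).2
  have hspan := CfsgLib.RepCritical.span_eq_top ρ (hs i)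
  rw [Subgroup.coe_top, Set.image_univ] at hspan
  have hsurj : ∀ T : Module.End S.K (Fin (s i).1 → S.K), ∃ f : H → S.K, act ρ f = T := fun T => by
    have hT : T ∈ Submodule.span S.K (Set.range fun g => ρ g) := hspan ▸ Submodule.mem_top
    obtain ⟨c, hc⟩ := (Submodule.mem_span_range_iff_exists_fun S.K).1 hT
    exact ⟨c, hc⟩
  have hconv : ∀ {j : ι} (f f' : H → S.K),
      act (s j).2 (fun x => ∑ h, f h * f' (h⁻¹ * x)) = act (s j).2 f * act (s j).2 f' :=
    fun f f' => act_conv _ f f'
  suffices hne : ∃ f : H → S.K, act ρ f ≠ 0 ∧ ∀ j ∈ t, act (s j).2 f = 0 by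
    obtain ⟨f, hf, hft⟩ := hne
    obtain ⟨v, hv⟩ : ∃ v, act ρ f v ≠ 0 := by
      by_contra hz
      push Not at hz
      exact hf (LinearMap.ext hz)
    obtain ⟨lam, hlam⟩ : ∃ lam : Module.Dual S.K (Fin (s i).1 → S.K), lam (act ρ f v) = 1 := by
      obtain ⟨k, hk⟩ := Function.ne_iff.1 hv
      exact ⟨((act ρ f v) k)⁻¹ • LinearMap.proj k, by simpa using inv_mul_cancel₀ hk⟩
    obtain ⟨c, hc⟩ := hsurj (lam.smulRight v)
    refine ⟨fun x => ∑ h, f h * c (h⁻¹ * x), ?_, fun j hj => by rw [hconv, hft j hj, zero_mul]⟩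
    rw [hconv, hc, show act ρ f * lam.smulRight v = lam.smulRight (act ρ f v) from
      LinearMap.ext fun x => by simp, LinearMap.trace_smulRight, hlam]
  induction t using Finset.induction_on with
  | empty =>
    obtain ⟨c, hc⟩ := hsurj 1
    refine ⟨c, ?_, by simp⟩
    rw [hc]
    intro h0
    refine (hs i).2.1 ((Submodule.eq_bot_iff _).2 fun x _ => ?_)
    simpa using LinearMap.congr_fun h0 x
  | insert j t hj ih =>
    rw [Finset.mem_insert, not_or] at hi
    obtain ⟨f, hf, hft⟩ := ih hi.2
    obtain ⟨f', hf'j, hf'⟩ := exists_act_separating (hs i) (hs j) fun e => hi.1 (hinj e)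
    obtain ⟨v, hv⟩ : ∃ v, act ρ f v ≠ 0 := by
      by_contra hz
      push Not at hz
      exact hf (LinearMap.ext hz)
    obtain ⟨u, hu⟩ : ∃ u, act ρ f' u ≠ 0 := by
      by_contra hz
      push Not at hz
      exact hf' (LinearMap.ext hz)
    obtain ⟨k, hk⟩ := Function.ne_iff.1 hu
    obtain ⟨c, hc⟩ := hsurj ((((act ρ f' u) k)⁻¹ • LinearMap.proj k).smulRight v)
    refine ⟨fun x => ∑ h, f h * (fun y => ∑ l, c l * f' (l⁻¹ * y)) (h⁻¹ * x), ?_, ?_⟩
    · rw [act_conv ρ f (fun y => ∑ l, c l * f' (l⁻¹ * y)), act_conv ρ c, hc]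
      intro h0
      refine hv ?_
      have := LinearMap.congr_fun h0 u
      simpa [Module.End.mul_apply, inv_mul_cancel₀ hk] using this
    · intro l hl
      rw [act_conv (s l).2 f (fun y => ∑ l, c l * f' (l⁻¹ * y))]
      rcases Finset.mem_insert.1 hl with e | e
      · subst e
        rw [act_conv (s l).2 c, hf'j, mul_zero, mul_zero]
      · rw [hft l e, zero_mul]

/-- Distinct Brauer characters of simple representations are linearly independent. -/
theorem Fits.eq_zero_of_sum [Fintype H] (hH : S.Fits H) {ι : Type*} [Fintype ι]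
    (s : ι → S.CoordRep H) (hs : ∀ j, Simple (s j).2)
    (hinj : Function.Injective fun j => S.brau (s j).2) (a : ι → ℂ)
    (ha : ∀ g, ∑ j, a j * S.brau (s j).2 g = 0) (i : ι) : a i = 0 := by
  classical
  by_contra hi
  -- scale by a coefficient of greatest valuation
  obtain ⟨i₀, -, hmax⟩ := Finset.exists_max_image univ (fun j => S.V.valuation (a j))
    ⟨i, mem_univ i⟩
  have h0 : a i₀ ≠ 0 := fun h => by
    have := hmax i (mem_univ i)
    simp only [h, map_zero, le_zero_iff, map_eq_zero] at this
    exact hi this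
  have hb : ∀ j, a j / a i₀ ∈ S.V := fun j => by
    rw [← ValuationSubring.valuation_le_one_iff, map_div₀]
    exact div_le_one_of_le₀ (hmax j (mem_univ j)) zero_le
  let b : ι → S.V := fun j => ⟨_, hb j⟩
  let r := IsLocalRing.residue S.V
  have hred : ∀ g, ∑ j, r (b j) * LinearMap.trace S.K _ ((s j).2 g) = 0 := by
    intro g
    choose v hv hvr using fun j => hH.residue_brau (s j).2 g
    have e : ∑ j, b j * v j = 0 := Subtype.ext (by
      have := ha g
      simp only [b, AddSubmonoidClass.coe_finsetSum, MulMemClass.coe_mul, hv, ZeroMemClass.coe_zero]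
      rw [Finset.sum_congr rfl fun j _ => show a j / a i₀ * S.brau (s j).2 g
        = (a i₀)⁻¹ * (a j * S.brau (s j).2 g) by ring, ← Finset.mul_sum, this, mul_zero])
    have := congrArg r e
    simp only [map_sum, map_mul, map_zero, r, hvr] at this
    exact this
  obtain ⟨f, hf1, hf0⟩ := exists_act_delta s hs hinj (univ.erase i₀) i₀ (by simp)
  have h1 : ∑ j, r (b j) * LinearMap.trace S.K _ (act (s j).2 f) = 0 := by
    simp only [act, map_sum, map_smul, smul_eq_mul, Finset.mul_sum]
    rw [Finset.sum_comm]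
    refine Finset.sum_eq_zero fun g _ => ?_
    rw [← mul_zero (f g), ← hred g, Finset.mul_sum]
    exact Finset.sum_congr rfl fun j _ => by ring
  rw [Finset.sum_eq_single i₀ (fun j _ hj => by
    rw [hf0 j (mem_erase.2 ⟨hj, mem_univ j⟩), map_zero, mul_zero]) (by simp), hf1, mul_one] at h1
  have h2 : b i₀ = 1 := Subtype.ext (div_self h0)
  rw [h2, map_one] at h1
  exact one_ne_zero h1

end PSys

end CfsgLib.IBr
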