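import Cfsg.Agent.Lib.IBr.Setup
import Mathlib.LinearAlgebra.Trace

/-!
# The lift of the eigenvalues of an endomorphism of order prime to `p`
-/

set_option autoImplicit false
set_option linter.style.haveILetI false

namespace CfsgLib.IBr.PSys

open Cfsg Finset Module

variable {p : ℕ} {M : Ideal AlgInt} (S : PSys p M)
variable {W W' : Type*} [AddCommGroup W] [Module S.K W] [AddCommGroup W'] [Module S.K W']

/-- The projection on the eigenspace of the `j`-th root. -/
noncomputable def eproj (X : Module.End S.K W) (j : ℕ) : Module.End S.K W :=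
  (S.m : S.K)⁻¹ • ∑ i ∈ range S.m, S.rootK ^ (i * (S.m - j)) • X ^ i

/-- The lifted trace. -/
noncomputable def brauEnd (X : Module.End S.K W) : ℂ :=
  ∑ j ∈ range S.m, S.root ^ j * (finrank S.K (LinearMap.range (S.eproj X j)) : ℂ)

variable {X : Module.End S.K W}

theorem mul_eproj (hX : X ^ S.m = 1) {j : ℕ} (hj : j < S.m) :
    X * S.eproj X j = S.rootK ^ j • S.eproj X j := by
  set f : ℕ → Module.End S.K W := fun i => S.rootK ^ (i * (S.m - j)) • X ^ i with hf
  have hshift : ∑ i ∈ range S.m, f (i + 1) = ∑ i ∈ range S.m, f i := by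
    have h := Finset.sum_range_succ' f S.m
    rw [Finset.sum_range_succ] at h
    have h0 : f S.m = f 0 := by
      simp only [hf, hX, zero_mul, pow_zero, pow_mul, S.rootK_pow, one_pow]
    rw [h0] at h
    exact (add_right_cancel h).symm
  rw [eproj, mul_smul_comm, Finset.mul_sum, smul_comm (S.rootK ^ j)]
  congr 1
  rw [show ∑ i ∈ range S.m, S.rootK ^ (i * (S.m - j)) • X ^ i = ∑ i ∈ range S.m, f i from rfl,
    ← hshift, Finset.smul_sum]
  refine Finset.sum_congr rfl fun i _ => ?_
  rw [mul_smul_comm, ← pow_succ', smul_smul, ← pow_add, show j + (i + 1) * (S.m - j)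
    = i * (S.m - j) + S.m by rw [add_mul, one_mul]; omega, pow_add S.rootK, S.rootK_pow, mul_one]

theorem pow_mul_eproj (hX : X ^ S.m = 1) {j : ℕ} (hj : j < S.m) (i : ℕ) :
    X ^ i * S.eproj X j = S.rootK ^ (i * j) • S.eproj X j := by
  induction i with
  | zero => simp
  | succ i ih =>
    rw [pow_succ', mul_assoc, ih, mul_smul_comm, S.mul_eproj hX hj, smul_smul, ← pow_add, add_mul,
      one_mul]

theorem eproj_idem (hX : X ^ S.m = 1) {j : ℕ} (hj : j < S.m) :
    S.eproj X j * S.eproj X j = S.eproj X j := by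
  nth_rw 1 [eproj]
  rw [smul_mul_assoc, Finset.sum_mul,
    Finset.sum_congr rfl (g := fun _ => S.eproj X j) fun i _ => ?_, Finset.sum_const,
    Finset.card_range, ← Nat.cast_smul_eq_nsmul S.K, smul_smul,
    inv_mul_cancel₀ (S.natCast_ne_zero S.hm), one_smul]
  rw [smul_mul_assoc, S.pow_mul_eproj hX hj, smul_smul, ← pow_add, ← mul_add,
    Nat.sub_add_cancel hj.le, mul_comm, pow_mul, S.rootK_pow, one_pow, one_smul]

theorem sum_eproj : ∑ j ∈ range S.m, S.eproj X j = 1 := by
  simp only [eproj, ← Finset.smul_sum]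
  rw [Finset.sum_comm]
  simp only [← Finset.sum_smul]
  rw [Finset.sum_eq_single (0 : ℕ)]
  · simp only [zero_mul, pow_zero, Finset.sum_const, Finset.card_range, nsmul_eq_mul, mul_one,
      smul_smul, inv_mul_cancel₀ (S.natCast_ne_zero S.hm), one_smul]
  · intro i hi hi0
    have hi' := mem_range.1 hi
    have key : ∀ j ∈ range S.m, S.rootK ^ (i * (S.m - j)) = (S.rootK ^ ((S.m - 1) * i)) ^ j := by
      intro j hj
      have hj' := mem_range.1 hj
      have hne : S.rootK ^ (i * j) ≠ 0 := by
        refine pow_ne_zero _ fun h => ?_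
        have := S.rootK_pow
        rw [h, zero_pow S.m_pos.ne'] at this
        exact zero_ne_one this
      refine mul_right_cancel₀ hne ?_
      rw [← pow_mul, ← pow_add, ← pow_add, ← mul_add, Nat.sub_add_cancel hj'.le,
        show (S.m - 1) * i * j + i * j = S.m * (i * j) by
          obtain ⟨m', hm'⟩ := Nat.exists_eq_succ_of_ne_zero S.m_pos.ne'
          rw [hm', Nat.succ_sub_one, Nat.succ_eq_add_one]; ring,
        pow_mul', pow_mul S.rootK S.m, S.rootK_pow, one_pow]
      first
        | rw [one_pow]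
        | rw [← pow_mul, mul_comm, pow_mul, S.rootK_pow, one_pow]
    have hnd : ¬ S.m ∣ (S.m - 1) * i := fun hd => by
      have hc : Nat.Coprime S.m (S.m - 1) := by
        obtain ⟨m', hm'⟩ := Nat.exists_eq_succ_of_ne_zero S.m_pos.ne'
        rw [hm', Nat.succ_sub_one]
        exact (Nat.coprime_self_add_left (m := m') (n := 1)).2 (Nat.coprime_one_left m')
      have := Nat.le_of_dvd (Nat.pos_of_ne_zero hi0) (hc.dvd_of_dvd_mul_left hd)
      omega
    rw [Finset.sum_congr rfl key, S.sum_rootK_pow hnd, zero_smul]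
  · intro h
    exact absurd (mem_range.2 S.m_pos) h

theorem eq_sum_eproj (hX : X ^ S.m = 1) : X = ∑ j ∈ range S.m, S.rootK ^ j • S.eproj X j := by
  conv_lhs => rw [← mul_one X, ← S.sum_eproj (X := X), Finset.mul_sum]
  exact Finset.sum_congr rfl fun j hj => S.mul_eproj hX (mem_range.1 hj)

theorem trace_of_idem [FiniteDimensional S.K W] {E : Module.End S.K W} (hE : E * E = E) :
    LinearMap.trace S.K W E = (finrank S.K (LinearMap.range E) : S.K) :=
  LinearMap.IsProj.trace ⟨fun x => LinearMap.mem_range_self E x, fun x hx => by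
    obtain ⟨y, rfl⟩ := hx
    exact LinearMap.congr_fun hE y⟩

theorem trace_eq_sum [FiniteDimensional S.K W] (hX : X ^ S.m = 1) :
    LinearMap.trace S.K W X =
      ∑ j ∈ range S.m, S.rootK ^ j * (finrank S.K (LinearMap.range (S.eproj X j)) : S.K) := by
  conv_lhs => rw [S.eq_sum_eproj hX]
  rw [map_sum]
  refine Finset.sum_congr rfl fun j hj => ?_
  rw [map_smul, smul_eq_mul, S.trace_of_idem (S.eproj_idem hX (mem_range.1 hj))]

/-- The lifted trace reduces to the trace. -/
theorem residue_brauEnd [FiniteDimensional S.K W] (hX : X ^ S.m = 1) :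
    ∃ v : S.V, (v : ℂ) = S.brauEnd X ∧ IsLocalRing.residue S.V v = LinearMap.trace S.K W X := by
  refine ⟨∑ j ∈ range S.m, S.rootV ^ j * (finrank S.K (LinearMap.range (S.eproj X j)) : S.V),
    ?_, ?_⟩
  · simp [brauEnd, rootV]
  · rw [S.trace_eq_sum hX, map_sum]
    simp [rootK]

theorem brauEnd_one [FiniteDimensional S.K W] :
    S.brauEnd (1 : Module.End S.K W) = (finrank S.K W : ℂ) := by
  have hX : (1 : Module.End S.K W) ^ S.m = 1 := one_pow _
  have hz : ∀ j ∈ range S.m, j ≠ 0 → S.eproj (1 : Module.End S.K W) j = 0 := by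
    intro j hj hj0
    have h := S.mul_eproj hX (mem_range.1 hj)
    rw [one_mul] at h
    have h1 : (1 - S.rootK ^ j) • S.eproj (1 : Module.End S.K W) j = 0 := by
      rw [sub_smul, one_smul, ← h, sub_self]
    refine (smul_eq_zero.1 h1).resolve_left fun h2 => ?_
    have hs := S.sum_rootK_pow (l := j) fun hd => by
      have := Nat.le_of_dvd (Nat.pos_of_ne_zero hj0) hd
      have := mem_range.1 hj
      omega
    rw [← sub_eq_zero.1 h2] at hs
    simp only [one_pow, Finset.sum_const, Finset.card_range, nsmul_eq_mul, mul_one] at hs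
    exact S.natCast_ne_zero S.hm hs
  have h0 : S.eproj (1 : Module.End S.K W) 0 = 1 := by
    conv_rhs => rw [← S.sum_eproj (X := (1 : Module.End S.K W)),
      Finset.sum_eq_single (0 : ℕ) hz fun h => absurd (mem_range.2 S.m_pos) h]
  rw [brauEnd, Finset.sum_eq_single (0 : ℕ)]
  · rw [pow_zero, one_mul, h0, Module.End.one_eq_id, LinearMap.range_id, finrank_top]
  · intro j hj hj0
    rw [hz j hj hj0]
    simp
  · exact fun h => absurd (mem_range.2 S.m_pos) h

theorem eproj_conj (φ : W ≃ₗ[S.K] W') (X : Module.End S.K W) (j : ℕ) :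
    S.eproj (φ.conjAlgEquiv S.K X) j = φ.conjAlgEquiv S.K (S.eproj X j) := by
  simp only [eproj, map_smul, map_sum, map_pow]

theorem brauEnd_conj (φ : W ≃ₗ[S.K] W') (X : Module.End S.K W) :
    S.brauEnd (φ.conjAlgEquiv S.K X) = S.brauEnd X := by
  refine Finset.sum_congr rfl fun j _ => ?_
  rw [S.eproj_conj]
  congr 2
  rw [show φ.conjAlgEquiv S.K (S.eproj X j)
    = φ.toLinearMap.comp ((S.eproj X j).comp φ.symm.toLinearMap) from rfl,
    LinearMap.range_comp, LinearMap.range_comp_of_range_eq_top _ φ.symm.range]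
  exact LinearEquiv.finrank_map_eq φ _

theorem finrank_range_split [FiniteDimensional S.K W] {E : Module.End S.K W} (hE : E * E = E)
    (U : Submodule S.K W) (hU : ∀ x ∈ U, E x ∈ U) :
    finrank S.K (LinearMap.range E) = finrank S.K (LinearMap.range (E.restrict hU)) +
      finrank S.K (LinearMap.range (U.mapQ U E hU)) := by
  let f := U.mkQ.domRestrict (LinearMap.range E)
  have h1 := LinearMap.finrank_range_add_finrank_ker f
  have h2 : LinearMap.range f = LinearMap.range (U.mapQ U E hU) := by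
    ext y
    constructor
    · rintro ⟨⟨_, x, rfl⟩, rfl⟩
      exact ⟨U.mkQ x, rfl⟩
    · rintro ⟨z, rfl⟩
      obtain ⟨x, rfl⟩ := U.mkQ_surjective z
      exact ⟨⟨E x, x, rfl⟩, rfl⟩
  have h3 : finrank S.K (LinearMap.ker f) = finrank S.K (LinearMap.range (E.restrict hU)) := by
    refine LinearEquiv.finrank_eq
      { toFun := fun x => ⟨⟨(x.1 : W), (Submodule.Quotient.mk_eq_zero U).1 x.2⟩,
          ⟨⟨(x.1 : W), (Submodule.Quotient.mk_eq_zero U).1 x.2⟩, Subtype.ext (by
            obtain ⟨⟨_, y, rfl⟩, hy⟩ := x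
            exact LinearMap.congr_fun hE y)⟩⟩
        invFun := fun x => ⟨⟨((x.1 : U) : W), by
            obtain ⟨_, ⟨u, rfl⟩⟩ := x
            exact ⟨(u : W), rfl⟩⟩, (Submodule.Quotient.mk_eq_zero U).2 x.1.2⟩
        map_add' := fun x y => rfl
        map_smul' := fun c x => rfl
        left_inv := fun x => rfl
        right_inv := fun x => rfl }
  rw [h2, h3] at h1
  omega

theorem pow_apply_mem {X : Module.End S.K W} (U : Submodule S.K W) (hU : ∀ x ∈ U, X x ∈ U)
    (i : ℕ) : ∀ x ∈ U, (X ^ i) x ∈ U := by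
  induction i with
  | zero => intro x hx; simpa using hx
  | succ i ih => intro x hx; rw [pow_succ', Module.End.mul_apply]; exact hU _ (ih x hx)

theorem eproj_apply_mem {X : Module.End S.K W} (U : Submodule S.K W) (hU : ∀ x ∈ U, X x ∈ U)
    (j : ℕ) : ∀ x ∈ U, S.eproj X j x ∈ U := fun x hx => by
  simp only [eproj, LinearMap.smul_apply, LinearMap.sum_apply]
  exact U.smul_mem _ (U.sum_mem fun i _ => U.smul_mem _ (S.pow_apply_mem U hU i x hx))

theorem brauEnd_split [FiniteDimensional S.K W] (hX : X ^ S.m = 1) (U : Submodule S.K W)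
    (hU : ∀ x ∈ U, X x ∈ U) :
    S.brauEnd X = S.brauEnd (X.restrict hU) + S.brauEnd (U.mapQ U X hU) := by
  have hr : ∀ (i : ℕ) (x : U), (((X.restrict hU) ^ i) x : W) = (X ^ i) x := by
    intro i
    induction i with
    | zero => intro x; simp
    | succ i ih => intro x; rw [pow_succ', pow_succ', Module.End.mul_apply, Module.End.mul_apply,
                     LinearMap.restrict_coe_apply, ih]
  have hq : ∀ (i : ℕ) (x : W), ((U.mapQ U X hU) ^ i) (U.mkQ x) = U.mkQ ((X ^ i) x) := by
    intro i
    induction i with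
    | zero => intro x; simp
    | succ i ih => intro x; rw [pow_succ', pow_succ', Module.End.mul_apply, Module.End.mul_apply, ih]; rfl
  simp only [brauEnd, ← Finset.sum_add_distrib, ← mul_add, ← Nat.cast_add]
  refine Finset.sum_congr rfl fun j hj => ?_
  have e1 : (S.eproj X j).restrict (S.eproj_apply_mem U hU j) = S.eproj (X.restrict hU) j :=
    LinearMap.ext fun x => Subtype.ext (by simp [eproj, hr])
  have e2 : U.mapQ U (S.eproj X j) (S.eproj_apply_mem U hU j) = S.eproj (U.mapQ U X hU) j := by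
    refine LinearMap.ext fun z => ?_
    obtain ⟨x, rfl⟩ := U.mkQ_surjective z
    show U.mkQ (S.eproj X j x) = _
    simp only [eproj, LinearMap.smul_apply, LinearMap.sum_apply, map_smul, map_sum, hq]
  rw [S.finrank_range_split (S.eproj_idem hX (mem_range.1 hj)) U (S.eproj_apply_mem U hU j), e1, e2]

end CfsgLib.IBr.PSys
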