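import Cfsg.Agent.Lib.IBr.PPrime
import Cfsg.Agent.Lib.Brauer.Induction
import Cfsg.Agent.Lib.Brauer.Elementary
import Mathlib.GroupTheory.Perm.Cycle.Type

/-!
# Brauer characters, extended through the `p'`-part, are generalized characters
-/

set_option autoImplicit false
set_option linter.style.haveILetI false

namespace CfsgLib.IBr.PSys

open Cfsg Finset Module

universe u

variable {p : ℕ} {M : Ideal AlgInt} {S : PSys p M}
variable {H : Type u} [Group H] [Fintype H]

theorem Fits.isGeneralizedCharacter_brau (hH : S.Fits H) {n : ℕ}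
    (ρ : Representation S.K H (Fin n → S.K)) : IsGeneralizedCharacter H (S.brau ρ) := by
  classical
  refine CfsgLib.Brauer.isGeneralizedCharacter_of_elementary (fun g h => brau_conj_arg ρ g h) ?_
  intro E r hr hE
  haveI : Group.IsNilpotent E := CfsgLib.Brauer.isNilpotent_of_isElementary hr hE
  obtain ⟨f, hf⟩ := S.he.exists_hom (E := E) ((Subgroup.card_subgroup_dvd_card E).trans hH)
  haveI := Fintype.ofFinite f.range
  have hpd : ¬ p ∣ Nat.card f.range := fun hd => by
    haveI := Fact.mk S.hp
    obtain ⟨y, hy⟩ := exists_prime_orderOf_dvd_card' p hd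
    obtain ⟨⟨_, x, rfl⟩, hx⟩ : ∃ z : f.range, z = y := ⟨y, rfl⟩
    have h1 : (f x) ^ S.m = 1 := by
      rw [hf]
      exact Subtype.ext (by
        push_cast
        exact hH.reg_pow (x : H))
    have e : orderOf (f x) = orderOf y := by
      rw [← hx]
      exact (Subgroup.orderOf_mk _ _).symm
    exact S.hm ((hy.symm.trans e.symm).dvd.trans (orderOf_dvd_of_pow_eq_one h1))
  let ρQ : Representation S.K f.range (Fin n → S.K) := ρ.comp (E.subtype.comp f.range.subtype)
  have hQ : S.Fits f.range := Fits.subgroup (Fits.subgroup hH E) f.range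
  have h1 := CfsgLib.Coherence.isCharacter_comp (hQ.isCharacter_brau hpd ρQ) f.rangeRestrict
  refine CfsgLib.Brauer.isGeneralizedCharacter_of_isCharacter ?_
  convert h1 using 1
  funext x
  show S.brau ρ (x : H) = S.brauEnd (ρQ ((f.rangeRestrict x) ^ S.e))
  rw [← hH.brau_reg ρ (x : H)]
  show S.brauEnd (ρ (S.reg (S.reg (x : H)))) =
    S.brauEnd (ρ (((f.rangeRestrict x ^ S.e : f.range) : E) : H))
  congr 2
  simp only [PSys.reg, SubmonoidClass.coe_pow, MonoidHom.coe_rangeRestrict, hf]

end CfsgLib.IBr.PSys
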