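import Cfsg.Agent.Lib.IBr.Reduction
import Cfsg.Agent.Lib.CharTheory.Decomp
import Cfsg.Agent.Lib.Brauer.CharRing

/-!
# Brauer characters of groups of order prime to `p` are characters
-/

set_option autoImplicit false
set_option linter.style.haveILetI false
set_option linter.unusedSectionVars false

namespace CfsgLib.IBr.PSys

open Cfsg Finset Module

universe u

variable {p : ℕ} {M : Ideal AlgInt} {S : PSys p M}
variable {Q : Type u} [Group Q] [Fintype Q]

/-- The reduction of an irreducible representation of a group of order prime to `p` is simple. -/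
theorem Fits.exists_simple_of_irr (hQ : S.Fits Q) (hp' : ¬ p ∣ Nat.card Q) (χ : IrrCharacter Q) :
    ∃ s : S.CoordRep Q, Simple s.2 ∧ S.brau s.2 = (χ : Q → ℂ) := by
  classical
  obtain ⟨d, ρ, hirr, hρ⟩ := χ.2
  obtain ⟨b, A, hA⟩ := exists_matrices (S := S) ρ
  have hreg : ∀ g : Q, S.reg g = g := fun g =>
    (hQ.reg_eq_self_iff g).2 fun h => hp' (h.trans (orderOf_dvd_natCard g))
  refine ⟨⟨d, red A⟩, ?_, funext fun g => ?_⟩
  swap
  · show S.brau (red A) g = _
    rw [hQ.brau_red, hA, trace_toMatrixAlgEquiv, hreg, ← hρ]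
    rfl
  have hd : 0 < d := by
    have h := CfsgLib.CharTheory.finrank_pos_of_isIrreducible ρ
    rwa [Module.finrank_fin_fun] at h
  have hn : ((Nat.card Q : ℕ) : S.K) ≠ 0 := S.natCast_ne_zero hp'
  have hnV : IsUnit ((Nat.card Q : ℕ) : S.V) := by
    rw [← IsLocalRing.residue_ne_zero_iff_isUnit, map_natCast]
    exact hn
  -- commuting endomorphisms are scalars
  have hscal : ∀ T : Module.End S.K (Fin d → S.K), (∀ g, T * red A g = red A g * T) →
      ∃ c : S.K, T = c • 1 := by
    intro T hT
    obtain ⟨w, hw⟩ := isUnit_iff_exists_inv'.1 hnV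
    set r := IsLocalRing.residue S.V
    set N := (Matrix.toLinAlgEquiv' (R := S.K) (n := Fin d)).symm T with hN
    choose L hL using fun i j => IsLocalRing.residue_surjective (R := S.V) (N i j)
    let T0 : Matrix (Fin d) (Fin d) S.V := w • ∑ x, A x * Matrix.of L * A x⁻¹
    have hcomm : ∀ g, A g * T0 = T0 * A g := fun g => by
      simp only [T0, mul_smul_comm, smul_mul_assoc, Finset.mul_sum, Finset.sum_mul]
      congr 1
      refine Fintype.sum_equiv (Equiv.mulLeft g) _ _ fun x => ?_
      simp only [Equiv.coe_mulLeft, mul_inv_rev, map_mul]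
      rw [mul_assoc (A g * A x * Matrix.of L) (A x⁻¹ * A g⁻¹) (A g), mul_assoc (A x⁻¹), ← map_mul A g⁻¹,
        inv_mul_cancel, map_one, mul_one]
      simp only [mul_assoc]
    set T1 := (LinearMap.toMatrixAlgEquiv b).symm (T0.map S.V.subtype) with hT1
    haveI := hirr
    obtain ⟨c, hc⟩ := CfsgLib.CharTheory.exists_smul_of_commute ρ T1 fun g => by
      refine (LinearMap.toMatrixAlgEquiv b).injective ?_
      rw [← Module.End.mul_eq_comp, ← Module.End.mul_eq_comp, map_mul, map_mul, hT1,
        AlgEquiv.apply_symm_apply, ← hA]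
      exact ((map_mul (S.V.subtype).mapMatrix _ _).symm.trans
        ((congrArg _ (hcomm g).symm).trans (map_mul (S.V.subtype).mapMatrix _ _)))
    have hc' : T0.map S.V.subtype = c • 1 := by
      rw [← (LinearMap.toMatrixAlgEquiv b).apply_symm_apply (T0.map S.V.subtype), ← hT1, hc,
        map_smul, ← Module.End.one_eq_id, map_one]
    let i₀ : Fin d := ⟨0, hd⟩
    have hT0 : T0 = T0 i₀ i₀ • (1 : Matrix (Fin d) (Fin d) S.V) := by
      have hcc : (T0 i₀ i₀ : ℂ) = c := by
        have := congrFun (congrFun hc' i₀) i₀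
        simpa [Matrix.one_apply] using this
      ext i j
      have := congrFun (congrFun hc' i) j
      by_cases hij : i = j
      · subst hij
        simpa [Matrix.one_apply, hcc] using this
      · simpa [Matrix.one_apply, hij] using this
    refine ⟨r (T0 i₀ i₀), ?_⟩
    have hNL : (Matrix.of L).map r = N := by ext i j; exact hL i j
    have hwK : r w * (Nat.card Q : S.K) = 1 := by rw [← map_natCast r, ← map_mul, hw, map_one]
    have key : Matrix.toLinAlgEquiv' (T0.map r) = T := by
      have e : T0.map r = r w • ∑ x, (A x).map r * N * (A x⁻¹).map r := by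
        ext i j
        simp only [T0, Matrix.map_apply, Matrix.smul_apply, Matrix.sum_apply, smul_eq_mul, map_mul,
          map_sum]
        congr 1
        refine Finset.sum_congr rfl fun x _ => ?_
        rw [← hNL, ← Matrix.map_mul, ← Matrix.map_mul]
        rfl
      rw [e, map_smul, map_sum, Finset.sum_congr rfl (g := fun _ => T) fun x _ => ?_,
        Finset.sum_const, Finset.card_univ, ← Nat.card_eq_fintype_card, ← Nat.cast_smul_eq_nsmul S.K,
        smul_smul, hwK, one_smul]
      rw [map_mul, map_mul, hN, AlgEquiv.apply_symm_apply, ← red_apply, ← red_apply, ← hT, mul_assoc,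
        ← map_mul, mul_inv_cancel, map_one, mul_one]
    have e2 : T0.map r = r (T0 i₀ i₀) • (1 : Matrix (Fin d) (Fin d) S.K) := by
      conv_lhs => rw [hT0]
      ext i j
      by_cases hij : i = j <;> simp [Matrix.one_apply, hij]
    rw [← key, e2, map_smul, map_one]
  refine ⟨fun g _ x _ => Submodule.mem_top, ?_, fun U _ hU => ?_⟩
  · haveI : Nontrivial (Fin d → S.K) := by
      haveI : Nonempty (Fin d) := ⟨⟨0, hd⟩⟩
      infer_instance
    exact top_ne_bot
  · by_contra hne
    rw [not_or] at hne
    obtain ⟨C, hC⟩ := Submodule.exists_isCompl U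
    set π : Module.End S.K (Fin d → S.K) := U.subtype.comp (U.projectionOnto C hC) with hπ
    let T : Module.End S.K (Fin d → S.K) := (Nat.card Q : S.K)⁻¹ • ∑ x, red A x * π * red A x⁻¹
    have hTU : ∀ v, T v ∈ U := fun v => by
      simp only [T, LinearMap.smul_apply, LinearMap.sum_apply, Module.End.mul_apply]
      refine U.smul_mem _ (U.sum_mem fun x _ => hU x (Subgroup.mem_top x) _ ?_)
      simp [hπ]
    have hTid : ∀ v ∈ U, T v = v := fun v hv => by
      simp only [T, LinearMap.smul_apply, LinearMap.sum_apply, Module.End.mul_apply]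
      rw [Finset.sum_congr rfl (g := fun _ => v) fun x _ => ?_, Finset.sum_const, Finset.card_univ,
        ← Nat.card_eq_fintype_card, ← Nat.cast_smul_eq_nsmul S.K, smul_smul, inv_mul_cancel₀ hn, one_smul]
      have h1 : red A x⁻¹ v ∈ U := hU _ (Subgroup.mem_top _) v hv
      rw [show π (red A x⁻¹ v) = red A x⁻¹ v from by
        simp [hπ, Submodule.projectionOnto_apply_left hC ⟨_, h1⟩], ← Module.End.mul_apply, ← map_mul,
        mul_inv_cancel, map_one, Module.End.one_apply]
    obtain ⟨c, hc⟩ := hscal T fun g => by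
      simp only [T, mul_smul_comm, smul_mul_assoc, Finset.mul_sum, Finset.sum_mul]
      congr 1
      refine (Fintype.sum_equiv (Equiv.mulLeft g) _ _ fun x => ?_).symm
      simp only [Equiv.coe_mulLeft, mul_inv_rev, map_mul]
      rw [mul_assoc (red A g * red A x * π) (red A x⁻¹ * red A g⁻¹) (red A g), mul_assoc (red A x⁻¹),
        ← map_mul (red A) g⁻¹, inv_mul_cancel, map_one, mul_one]
      simp only [mul_assoc]
    obtain ⟨v, hv, hv0⟩ := Submodule.exists_mem_ne_zero_of_ne_bot hne.1
    have hc1 : c = 1 := by
      have h1 := hTid v hv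
      rw [hc, LinearMap.smul_apply, Module.End.one_apply] at h1
      have : (c - 1) • v = 0 := by rw [sub_smul, one_smul, h1, sub_self]
      exact sub_eq_zero.1 ((smul_eq_zero.1 this).resolve_right hv0)
    refine hne.2 (eq_top_iff.2 fun x _ => ?_)
    have := hTU x
    rwa [hc, hc1, one_smul, Module.End.one_apply] at this

/-- A Brauer character of a group of order prime to `p` is a character. -/
theorem Fits.isCharacter_brau (hQ : S.Fits Q) (hp' : ¬ p ∣ Nat.card Q) {n : ℕ}
    (ρ : Representation S.K Q (Fin n → S.K)) : IsCharacter Q (S.brau ρ) := by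
  classical
  obtain ⟨l, hl, hsum, -⟩ := hQ.exists_factors n (Fin n → S.K) ρ (Module.finrank_fin_fun S.K)
  haveI := Fintype.ofFinite (IrrCharacter Q)
  choose s hs hsχ using fun χ => hQ.exists_simple_of_irr hp' χ
  have hmem : ∀ t ∈ l, IsCharacter Q (S.brau t.2) := by
    intro t ht
    by_contra hnot
    let F : Option (IrrCharacter Q) → S.CoordRep Q := fun o => o.elim t s
    have hF : ∀ o, Simple (F o).2 := fun o => by
      cases o
      · exact hl t ht
      · exact hs _
    have hinj : Function.Injective fun o => S.brau (F o).2 := by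
      rintro (_ | χ) (_ | ψ) h
      · rfl
      · have h' : S.brau t.2 = (ψ : Q → ℂ) := h.trans (hsχ ψ)
        exact absurd (h' ▸ CfsgLib.CharTheory.IsIrrCharacter.isCharacter ψ.2) hnot
      · have h' : S.brau t.2 = (χ : Q → ℂ) := h.symm.trans (hsχ χ)
        exact absurd (h' ▸ CfsgLib.CharTheory.IsIrrCharacter.isCharacter χ.2) hnot
      · have h' : (χ : Q → ℂ) = (ψ : Q → ℂ) := (hsχ χ).symm.trans (h.trans (hsχ ψ))
        rw [Subtype.ext h']
    have hcf : IsClassFunction Q (S.brau t.2) := fun g h => brau_conj_arg t.2 g h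
    let a : Option (IrrCharacter Q) → ℂ := fun o =>
      o.elim (-1) fun χ => classInner (S.brau t.2) (χ : Q → ℂ)
    have h0 := hQ.eq_zero_of_sum F hF hinj a (fun g => by
      rw [Fintype.sum_option]
      show (-1 : ℂ) * S.brau t.2 g +
        ∑ χ : IrrCharacter Q, classInner (S.brau t.2) (χ : Q → ℂ) * S.brau (s χ).2 g = 0
      have e := congrFun (CfsgLib.CharTheory.eq_sum_classInner (f := S.brau t.2) hcf) g
      simp only [Finset.sum_apply, Pi.smul_apply, smul_eq_mul] at e
      rw [Finset.sum_congr rfl fun χ _ => by rw [hsχ], ← e]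
      ring) none
    exact neg_ne_zero.2 one_ne_zero h0
  have e : S.brau ρ = (l.map fun t => S.brau t.2).sum := by
    funext g
    rw [hsum g]
    clear hsum hl hmem
    induction l with
    | nil => simp
    | cons a t ih => simp [ih]
  rw [e]
  clear e hsum hl
  induction l with
  | nil => simpa using CfsgLib.Coherence.isCharacter_zero
  | cons a t ih =>
    rw [List.map_cons, List.sum_cons]
    exact CfsgLib.Coherence.isCharacter_add (hmem a List.mem_cons_self)
      (ih fun x hx => hmem x (List.mem_cons_of_mem _ hx))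

end CfsgLib.IBr.PSys
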