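import Cfsg.Agent.Lib.IBr.BrauerChar
import Cfsg.Agent.Lib.BrauerCharacters.BlockAlgebra
import Cfsg.Agent.Lib.BrauerCharacters.Reduction

/-!
# Reduction of complex representations and their Brauer characters
-/

set_option autoImplicit false
set_option linter.style.haveILetI false
set_option linter.unusedSectionVars false

namespace CfsgLib.IBr

open Cfsg Finset Module CfsgLib.Blocks

universe u

section Fourier

variable {R : Type*} [CommRing R] {A : Type*} [Ring A] [Algebra R A] {m : ℕ} (w z : R)

/-- The averaging element attached to the `j`-th power of a root of unity. -/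
def fourierProj (m : ℕ) (X : A) (j : ℕ) : A :=
  w • ∑ i ∈ range m, z ^ (i * (m - j)) • X ^ i

variable {w z} {X : A}

theorem mul_fourierProj (hz : z ^ m = 1) (hX : X ^ m = 1) {j : ℕ} (hj : j < m) :
    X * fourierProj w z m X j = z ^ j • fourierProj w z m X j := by
  set f : ℕ → A := fun i => z ^ (i * (m - j)) • X ^ i with hf
  have hshift : ∑ i ∈ range m, f (i + 1) = ∑ i ∈ range m, f i := by
    have h := Finset.sum_range_succ' f m
    rw [Finset.sum_range_succ] at h
    have h0 : f m = f 0 := by
      simp only [hf, hX, zero_mul, pow_zero, pow_mul, hz, one_pow]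
    rw [h0] at h
    exact (add_right_cancel h).symm
  rw [fourierProj, mul_smul_comm, Finset.mul_sum, smul_comm (z ^ j)]
  congr 1
  rw [show ∑ i ∈ range m, z ^ (i * (m - j)) • X ^ i = ∑ i ∈ range m, f i from rfl,
    ← hshift, Finset.smul_sum]
  refine Finset.sum_congr rfl fun i _ => ?_
  rw [mul_smul_comm, ← pow_succ', smul_smul, ← pow_add, show j + (i + 1) * (m - j)
    = i * (m - j) + m by rw [add_mul, one_mul]; omega, pow_add z, hz, mul_one]

theorem fourierProj_idem (hw : w * (m : R) = 1) (hz : z ^ m = 1) (hX : X ^ m = 1) {j : ℕ}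
    (hj : j < m) : fourierProj w z m X j * fourierProj w z m X j = fourierProj w z m X j := by
  have hpow : ∀ i, X ^ i * fourierProj w z m X j = z ^ (i * j) • fourierProj w z m X j := by
    intro i
    induction i with
    | zero => simp
    | succ i ih =>
      rw [pow_succ', mul_assoc, ih, mul_smul_comm, mul_fourierProj hz hX hj, smul_smul, ← pow_add,
        add_mul, one_mul]
  nth_rw 1 [fourierProj]
  rw [smul_mul_assoc, Finset.sum_mul,
    Finset.sum_congr rfl (g := fun _ => fourierProj w z m X j) fun i _ => ?_, Finset.sum_const,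
    Finset.card_range, ← Nat.cast_smul_eq_nsmul R, smul_smul, hw, one_smul]
  rw [smul_mul_assoc, hpow, smul_smul, ← pow_add, ← mul_add, Nat.sub_add_cancel hj.le,
    mul_comm i, pow_mul, hz, one_pow, one_smul]

/-- An element of order dividing `m` is the weighted sum of its averaging elements. -/
theorem sum_fourierProj (hw : w * (m : R) = 1) (hz : z ^ m = 1)
    (hs : ∀ l, ¬ m ∣ l → ∑ i ∈ range m, (z ^ l) ^ i = 0) (hm : 0 < m) (hX : X ^ m = 1) :
    ∑ j ∈ range m, z ^ j • fourierProj w z m X j = X := by
  simp only [fourierProj, Finset.smul_sum, smul_smul]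
  rw [Finset.sum_comm]
  simp only [← Finset.sum_smul]
  have hcoef : ∀ i ∈ range m, ∀ j ∈ range m,
      z ^ j * (w * z ^ (i * (m - j))) = w * (z ^ ((m - 1) * i + 1)) ^ j := by
    intro i hi j hj
    obtain ⟨m', rfl⟩ := Nat.exists_eq_succ_of_ne_zero hm.ne'
    have hj' := mem_range.1 hj
    obtain ⟨k, hk⟩ := Nat.exists_eq_add_of_le (Nat.le_of_lt_succ hj')
    rw [mul_left_comm, ← pow_add, ← pow_mul]
    congr 1
    rw [Nat.succ_sub_one, show m'.succ - j = k + 1 by omega, hk]
    have e : ((j + k) * i + 1) * j + (j + k).succ * i = j + i * (k + 1) + (j + k).succ * (i * j) := by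
      rw [Nat.succ_eq_add_one]; ring
    rw [hk] at hz
    calc z ^ (j + i * (k + 1))
        = z ^ (j + i * (k + 1) + (j + k).succ * (i * j)) := by
          rw [pow_add z (j + i * (k + 1)), pow_mul, hz, one_pow, mul_one]
      _ = z ^ (((j + k) * i + 1) * j + (j + k).succ * i) := by rw [e]
      _ = z ^ (((j + k) * i + 1) * j) := by rw [pow_add, pow_mul z (j + k).succ, hz, one_pow, mul_one]
  rcases Nat.lt_or_ge 1 m with hm1 | hm1
  · rw [Finset.sum_eq_single 1]
    · rw [pow_one, Finset.sum_congr rfl fun j hj => hcoef 1 (mem_range.2 hm1) j hj, ← Finset.mul_sum,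
        show (m - 1) * 1 + 1 = m by omega, hz]
      simp [hw]
    · intro i hi hi1
      rw [Finset.sum_congr rfl fun j hj => hcoef i hi j hj, ← Finset.mul_sum, hs, mul_zero, zero_smul]
      intro hd
      have hi' := mem_range.1 hi
      have h2 : m ∣ (m - 1) * i + 1 + (i - 1) ↔ m ∣ i - 1 := Nat.dvd_add_right hd
      rcases Nat.eq_zero_or_pos i with h0 | h0
      · subst h0
        have := Nat.le_of_dvd one_pos (by simpa using hd)
        omega
      · have h3 : (m - 1) * i + 1 + (i - 1) = m * i := by
          obtain ⟨m', rfl⟩ := Nat.exists_eq_succ_of_ne_zero hm.ne'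
          rw [Nat.succ_sub_one, Nat.succ_mul]
          omega
        rw [h3] at h2
        have := Nat.le_of_dvd (by omega) (h2.1 (dvd_mul_right m i))
        omega
    · exact fun h => absurd (mem_range.2 hm1) h
  · obtain rfl : m = 1 := by omega
    simp only [Nat.cast_one, mul_one] at hw
    simp only [pow_one] at hX
    simp [hw, hX]

end Fourier

variable {p : ℕ} {M : Ideal AlgInt} {S : PSys p M}
variable {H : Type u} [Group H] [Finite H]

namespace PSys

/-- The reduction of a representation by matrices over the valuation ring. -/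
noncomputable def red {d : ℕ} (A : H →* Matrix (Fin d) (Fin d) S.V) :
    Representation S.K H (Fin d → S.K) :=
  (Matrix.toLinAlgEquiv' (R := S.K) (n := Fin d)).toAlgHom.toMonoidHom.comp
    ((IsLocalRing.residue S.V).mapMatrix.toMonoidHom.comp A)

theorem red_apply {d : ℕ} (A : H →* Matrix (Fin d) (Fin d) S.V) (g : H) :
    red A g = Matrix.toLinAlgEquiv' ((A g).map (IsLocalRing.residue S.V)) := rfl

theorem isUnit_m : IsUnit (S.m : S.V) := by
  rw [← IsLocalRing.residue_ne_zero_iff_isUnit, map_natCast]
  exact S.natCast_ne_zero S.hm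

theorem Fits.brau_red (hH : S.Fits H) {d : ℕ} (A : H →* Matrix (Fin d) (Fin d) S.V) (g : H) :
    S.brau (red A) g = ((A (S.reg g)).map S.V.subtype).trace := by
  classical
  obtain ⟨w, hw⟩ := isUnit_iff_exists_inv'.1 (isUnit_m (S := S))
  set X := A (S.reg g) with hX'
  have hX : X ^ S.m = 1 := by rw [hX', ← map_pow, hH.reg_pow, map_one]
  set r := IsLocalRing.residue S.V with hr
  let P : ℕ → Matrix (Fin d) (Fin d) S.V := fun j => fourierProj w S.rootV S.m X j
  let F : Matrix (Fin d) (Fin d) S.V →+* Module.End S.K (Fin d → S.K) :=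
    (Matrix.toLinAlgEquiv' (R := S.K) (n := Fin d)).toAlgHom.toRingHom.comp r.mapMatrix
  have hsmul : ∀ (a : S.V) (Y : Matrix (Fin d) (Fin d) S.V), F (a • Y) = r a • F Y := fun a Y => by
    show Matrix.toLinAlgEquiv' ((a • Y).map r) = r a • Matrix.toLinAlgEquiv' (Y.map r)
    rw [← map_smul]
    congr 1
  have hP : ∀ j, S.eproj (red A (S.reg g)) j = F (P j) := fun j => by
    have hw' : r w = (S.m : S.K)⁻¹ := by
      refine eq_inv_of_mul_eq_one_left ?_
      rw [← map_natCast r, ← map_mul, hw, map_one]
    simp only [P, fourierProj, PSys.eproj, hsmul, map_sum, map_pow, hw', PSys.rootK]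
    rfl
  choose rk hrk using fun j : ℕ => (show ∃ rk : ℕ, j ∈ range S.m →
      finrank S.K (LinearMap.range (S.eproj (red A (S.reg g)) j)) = rk ∧
        ((P j).map S.V.subtype).trace = (rk : ℂ) from by
    by_cases hj : j ∈ range S.m
    · obtain ⟨rk, h⟩ := BrauerCharacters.exists_rank_of_idempotent
        (fourierProj_idem hw S.rootV_pow hX (mem_range.1 hj))
      refine ⟨rk, fun _ => ⟨?_, (h ℂ S.V.subtype).2⟩⟩
      rw [hP]
      exact (h S.K r).1
    · exact ⟨0, fun h => absurd h hj⟩)
  rw [PSys.brau, PSys.brauEnd]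
  conv_rhs => rw [← sum_fourierProj hw S.rootV_pow (fun l hl => S.sum_rootV_pow hl) S.m_pos hX]
  rw [← RingHom.mapMatrix_apply, map_sum, Matrix.trace_sum]
  refine Finset.sum_congr rfl fun j hj => ?_
  rw [(hrk j hj).1, ← (hrk j hj).2]
  show _ = (((S.rootV ^ j) • P j).map S.V.subtype).trace
  rw [show ((S.rootV ^ j) • P j).map S.V.subtype = (S.root ^ j) • (P j).map S.V.subtype from by
    ext i k; simp [PSys.rootV], Matrix.trace_smul, smul_eq_mul]

theorem act_red [Fintype H] {d : ℕ} (A : H →* Matrix (Fin d) (Fin d) S.V) (f : H → S.V) (c : S.V)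
    (h : ∑ x, (f x : ℂ) • (A x).map S.V.subtype = (c : ℂ) • 1) :
    act (red A) (fun x => IsLocalRing.residue S.V (f x)) = IsLocalRing.residue S.V c • 1 := by
  have h1 : ∑ x, f x • A x = c • (1 : Matrix (Fin d) (Fin d) S.V) := by
    ext i j
    have := congrFun (congrFun h i) j
    simp only [Matrix.sum_apply, Matrix.smul_apply, Matrix.map_apply, smul_eq_mul] at this
    simp only [Matrix.sum_apply, Matrix.smul_apply, AddSubmonoidClass.coe_finsetSum, smul_eq_mul,
      MulMemClass.coe_mul]
    by_cases hij : i = j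
    · subst hij
      simpa [Matrix.one_apply] using this
    · simpa [Matrix.one_apply, hij] using this
  have h2 := congrArg (fun Y => (IsLocalRing.residue S.V).mapMatrix Y) h1
  simp only [map_sum] at h2
  have e : ∀ (a : S.V) (Y : Matrix (Fin d) (Fin d) S.V), (IsLocalRing.residue S.V).mapMatrix (a • Y)
      = IsLocalRing.residue S.V a • (IsLocalRing.residue S.V).mapMatrix Y := fun a Y => by
    ext i j; simp
  simp only [e, map_one] at h2
  have h3 := congrArg (Matrix.toLinAlgEquiv' (R := S.K) (n := Fin d)) h2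
  rw [map_sum, map_smul, map_one] at h3
  simp only [map_smul] at h3
  exact h3

/-- Every complex representation is equivalent to one by matrices over the valuation ring. -/
theorem exists_matrices {d : ℕ} (ρ : Representation ℂ H (Fin d → ℂ)) :
    ∃ (b : Basis (Fin d) ℂ (Fin d → ℂ)) (A : H →* Matrix (Fin d) (Fin d) S.V),
      ∀ g, (A g).map S.V.subtype = LinearMap.toMatrixAlgEquiv b (ρ g) := by
  obtain ⟨b, hb⟩ := BrauerCharacters.Reduction.exists_stable_basis ρ S.V
  let A₀ : H → Matrix (Fin d) (Fin d) S.V := fun g i j => ⟨b.repr (ρ g (b j)) i, hb g i j⟩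
  have hA : ∀ g, (A₀ g).map S.V.subtype = LinearMap.toMatrixAlgEquiv b (ρ g) := fun g => by
    ext i j
    rw [Matrix.map_apply, LinearMap.toMatrixAlgEquiv_apply]
    rfl
  have hinj : Function.Injective fun Y : Matrix (Fin d) (Fin d) S.V => Y.map S.V.subtype :=
    Matrix.map_injective S.V.subtype_injective
  refine ⟨b, { toFun := A₀, map_one' := hinj ?_, map_mul' := fun g h => hinj ?_ }, hA⟩
  · simp only [hA, map_one]
    exact (map_one (S.V.subtype).mapMatrix).symm
  · simp only [hA, map_mul]
    rw [← hA, ← hA]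
    exact (map_mul (S.V.subtype).mapMatrix _ _).symm

theorem trace_toMatrixAlgEquiv {d : ℕ} (b : Basis (Fin d) ℂ (Fin d → ℂ))
    (T : Module.End ℂ (Fin d → ℂ)) :
    (LinearMap.toMatrixAlgEquiv b T).trace = LinearMap.trace ℂ _ T :=
  (LinearMap.trace_eq_matrix_trace ℂ b T).symm

theorem Fits.exists_lift (hH : S.Fits H) [Fintype H] {d : ℕ}
    (ρ : Representation ℂ H (Fin d → ℂ)) :
    ∃ σ : Representation S.K H (Fin d → S.K), (∀ g, S.brau σ g = ρ.character (S.reg g)) ∧
      ∀ (f : H → S.V) (c : S.V), ∑ x, (f x : ℂ) • ρ x = (c : ℂ) • 1 →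
        act σ (fun x => IsLocalRing.residue S.V (f x)) = IsLocalRing.residue S.V c • 1 := by
  obtain ⟨b, A, hA⟩ := exists_matrices (S := S) ρ
  refine ⟨red A, fun g => ?_, fun f c h => act_red A f c ?_⟩
  · rw [hH.brau_red, hA, trace_toMatrixAlgEquiv]
    rfl
  · simp only [hA, ← map_smul, ← map_sum, h]
    rw [map_smul, map_one]

end PSys

end CfsgLib.IBr
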