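import Cfsg.Agent.Lib.Blocks.LocalRing
import Cfsg.Agent.Lib.DefectOne.SmallCentral
import Cfsg.Agent.Lib.RealChar.PiSection
import Mathlib.RingTheory.RootsOfUnity.AlgebraicallyClosed

/-!
# A valuation subring of the complex numbers above a maximal ideal of the algebraic integers
-/

set_option autoImplicit false
set_option linter.style.haveILetI false

namespace CfsgLib.IBr

open Cfsg CfsgLib.Blocks

/-- The data used for lifting: a valuation subring above `M` and the parts of a group order. -/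
structure PSys (p : ℕ) (M : Ideal AlgInt) where
  /-- The valuation subring. -/
  V : ValuationSubring ℂ
  /-- The `p'`-part. -/
  m : ℕ
  /-- The `p`-part. -/
  q : ℕ
  /-- The exponent selecting the `p'`-part of an element. -/
  e : ℕ
  hp : p.Prime
  hM : IsPModular p M
  hq : ∃ a, q = p ^ a
  hm : ¬ p ∣ m
  he : CfsgLib.RealChar.IsPiExp m q e
  hV : ∀ {z : ℂ}, MemLocalRing M z → z ∈ V
  hnu : ∀ {z : ℂ}, MemLocalIdeal M z → z ∈ V.nonunits
  hpV : (p : ℂ) ∈ V.nonunits

variable {p : ℕ} {M : Ideal AlgInt}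

theorem exists_valuationSubring (hM : IsPModular p M) :
    ∃ V : ValuationSubring ℂ, (∀ z, MemLocalRing M z → z ∈ V) ∧
      (∀ z, MemLocalIdeal M z → z ∈ V.nonunits) ∧ (p : ℂ) ∈ V.nonunits := by
  haveI := isPrime_of_isPModular hM
  let A : Subring ℂ := (integralClosure ℤ ℂ).toSubring
  let e : AlgInt →+* A := RingHom.id _
  obtain ⟨V, hA, hV⟩ := Ideal.image_subset_nonunits_valuationSubring (A := A) (M : Ideal A)
    (Ideal.IsPrime.ne_top (I := (M : Ideal A)) inferInstance)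
  have hmem : ∀ a : AlgInt, (a : ℂ) ∈ V := fun a => hA a.2
  have hne : ∀ a : AlgInt, a ∈ M → (a : ℂ) ∈ V.nonunits := fun a ha => hV ⟨a, ha, rfl⟩
  have hunit : ∀ b : AlgInt, b ∉ M → ((b : ℂ))⁻¹ ∈ V := by
    intro b hb
    obtain ⟨c, hc, hcb⟩ := (Ideal.IsMaximal.exists_inv hM.2.1 hb)
    obtain ⟨i, hi, hci⟩ : ∃ i ∈ M, c * b + i = 1 := ⟨hc, hcb.1, hcb.2⟩
    by_contra hcon
    have hb0 : (b : ℂ) ∈ V.nonunits := by
      rw [ValuationSubring.mem_nonunits_iff_exists_mem_maximalIdeal]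
      refine ⟨hmem b, ?_⟩
      rw [IsLocalRing.mem_maximalIdeal, mem_nonunits_iff]
      intro hu
      obtain ⟨u, hu⟩ := hu
      apply hcon
      have h1 : ((u⁻¹ : Vˣ) : V).1 * (b : ℂ) = 1 := by
        have := congrArg Subtype.val (Units.inv_mul u)
        rw [hu] at this
        exact this
      rw [← eq_inv_of_mul_eq_one_left h1]
      exact ((u⁻¹ : Vˣ) : V).2
    have hi0 := hne i hi
    rw [ValuationSubring.mem_nonunits_iff_exists_mem_maximalIdeal] at hb0 hi0
    obtain ⟨hb1, hb2⟩ := hb0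
    obtain ⟨hi1, hi2⟩ := hi0
    have hone : (1 : V) ∈ IsLocalRing.maximalIdeal V := by
      have : (1 : V) = ⟨(c : ℂ), hmem c⟩ * ⟨(b : ℂ), hb1⟩ + ⟨(i : ℂ), hi1⟩ := by
        refine Subtype.ext ?_
        show (1 : ℂ) = (c : ℂ) * b + i
        rw [← MulMemClass.coe_mul, ← AddMemClass.coe_add, hci]; rfl
      rw [this]
      exact Ideal.add_mem _ (Ideal.mul_mem_left _ _ hb2) hi2
    exact (IsLocalRing.maximalIdeal.isMaximal V).ne_top ((Ideal.eq_top_iff_one _).2 hone)
  refine ⟨V, ?_, ?_, ?_⟩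
  · rintro z ⟨a, b, hb, rfl⟩
    rw [div_eq_mul_inv]
    exact V.mul_mem _ _ (hmem a) (hunit b hb)
  · rintro z ⟨a, b, ha, hb, rfl⟩
    obtain ⟨h1, h2⟩ := ValuationSubring.mem_nonunits_iff_exists_mem_maximalIdeal.1 (hne a ha)
    rw [ValuationSubring.mem_nonunits_iff_exists_mem_maximalIdeal, div_eq_mul_inv]
    exact ⟨V.mul_mem _ _ h1 (hunit b hb), Ideal.mul_mem_right (⟨_, hunit b hb⟩ : V) _ h2⟩
  · have := hne (p : AlgInt) hM.2.2
    rwa [algInt_natCast_coe] at this

/-- Every finite group order gives a system. -/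
theorem exists_system (hM : IsPModular p M) (N : ℕ) (hN : N ≠ 0) :
    ∃ S : PSys p M, N ∣ S.m * S.q ∧ S.q = p ^ N.factorization p ∧
      S.m = N / p ^ N.factorization p := by
  obtain ⟨V, h1, h2, h3⟩ := exists_valuationSubring hM
  obtain ⟨e, he⟩ := CfsgLib.RealChar.exists_isPiExp (n := ordCompl[p] N) (m := ordProj[p] N)
    ((Nat.coprime_ordCompl hM.1 hN).pow_left _).symm
  refine ⟨⟨V, ordCompl[p] N, ordProj[p] N, e, hM.1, hM, ⟨_, rfl⟩,
    Nat.not_dvd_ordCompl hM.1 hN, he, h1 _, h2 _, h3⟩, ?_, rfl, rfl⟩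
  rw [mul_comm]
  exact (Nat.ordProj_mul_ordCompl_eq_self N p).symm.dvd

namespace PSys

variable (S : PSys p M)

/-- The residue field. -/
abbrev K : Type := IsLocalRing.ResidueField S.V

theorem charP : CharP S.K p := by
  refine (CharP.charP_iff_prime_eq_zero S.hp).2 ?_
  rw [← map_natCast (IsLocalRing.residue S.V), IsLocalRing.residue_eq_zero_iff]
  obtain ⟨h1, h2⟩ := ValuationSubring.mem_nonunits_iff_exists_mem_maximalIdeal.1 S.hpV
  exact (show (⟨(p : ℂ), h1⟩ : S.V) = (p : S.V) from Subtype.ext (by simp)) ▸ h2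

theorem isAlgClosed : IsAlgClosed S.K := CfsgLib.DefectOne.isAlgClosed_residue S.V

theorem m_pos : 0 < S.m := Nat.pos_of_ne_zero fun h => S.hm (h ▸ dvd_zero p)

theorem natCast_ne_zero {n : ℕ} (hn : ¬ p ∣ n) : (n : S.K) ≠ 0 := fun h => by
  haveI := S.charP
  exact hn ((CharP.cast_eq_zero_iff S.K p n).1 h)

/-- A primitive `m`-th root of unity. -/
noncomputable def root : ℂ := Complex.exp (2 * Real.pi * Complex.I / S.m)

theorem isPrimitiveRoot_root : IsPrimitiveRoot S.root S.m :=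
  Complex.isPrimitiveRoot_exp S.m S.m_pos.ne'

theorem root_mem : S.root ∈ S.V :=
  haveI := isPrime_of_isPModular S.hM
  S.hV (memLocalRing_of_isIntegral (S.isPrimitiveRoot_root.isIntegral S.m_pos))

/-- The root as an element of the valuation ring. -/
noncomputable def rootV : S.V := ⟨S.root, S.root_mem⟩

/-- Its residue. -/
noncomputable def rootK : S.K := IsLocalRing.residue S.V S.rootV

theorem rootV_pow : S.rootV ^ S.m = 1 :=
  Subtype.ext (by simp [rootV, S.isPrimitiveRoot_root.pow_eq_one])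

theorem rootK_pow : S.rootK ^ S.m = 1 := by rw [rootK, ← map_pow, S.rootV_pow, map_one]

theorem sum_rootV_pow {l : ℕ} (hl : ¬ S.m ∣ l) : ∑ i ∈ Finset.range S.m, (S.rootV ^ l) ^ i = 0 := by
  refine Subtype.ext ?_
  have h1 : S.root ^ l ≠ 1 := fun h => hl ((S.isPrimitiveRoot_root.pow_eq_one_iff_dvd l).1 h)
  simp only [rootV, AddSubmonoidClass.coe_finsetSum, SubmonoidClass.coe_pow, ZeroMemClass.coe_zero]
  rw [geom_sum_eq h1, ← pow_mul, mul_comm, pow_mul, S.isPrimitiveRoot_root.pow_eq_one, one_pow,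
    sub_self, zero_div]

theorem sum_rootK_pow {l : ℕ} (hl : ¬ S.m ∣ l) : ∑ i ∈ Finset.range S.m, (S.rootK ^ l) ^ i = 0 := by
  simp only [rootK, ← map_pow, ← map_sum, S.sum_rootV_pow hl, map_zero]

end PSys

end CfsgLib.IBr
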